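import Groth.Agent.S15171
import Mathlib.FieldTheory.Galois.Basic
import Mathlib.FieldTheory.PurelyInseparable.PerfectClosure
import Mathlib.RingTheory.AdjoinRoot
import Mathlib.LinearAlgebra.FiniteDimensional.Basic
import Mathlib.Tactic.Module
import Mathlib.Tactic.LinearCombination

universe u v
namespace Groth.Agent.BddFin
open Polynomial

variable {K : Type u} [Field K] {A : Type v} [DivisionRing A] [Algebra K A] [FiniteDimensional K A]

/-- If `x` is separable and `x ^ p` commutes with `z`, then `x` commutes with `z`. -/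
theorem commute_of_isSeparable_of_pow (p : ℕ) [Fact p.Prime] [CharP K p] {x z : A}
    (hs : IsSeparable K x) (h : z * x ^ p = x ^ p * z) : z * x = x * z := by
  have hint : IsIntegral K x := Algebra.IsIntegral.isIntegral x
  haveI : Fact (Irreducible (minpoly K x)) := ⟨minpoly.irreducible hint⟩
  haveI : ExpChar K p := ExpChar.prime Fact.out
  haveI : FiniteDimensional K (AdjoinRoot (minpoly K x)) := (minpoly.monic hint).finite_adjoinRoot
  set r := AdjoinRoot.root (minpoly K x)
  have hrs : IsSeparable K r := by
    show (minpoly K r).Separable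
    rw [AdjoinRoot.minpoly_root (minpoly.ne_zero hint), (minpoly.monic hint).leadingCoeff]
    simpa using! hs
  have hr : r ∈ (IntermediateField.adjoin K {r ^ p}).toSubalgebra := by
    rw [← IntermediateField.adjoin_simple_eq_adjoin_pow_expChar_of_isSeparable K _ hrs p]
    exact IntermediateField.mem_adjoin_simple_self K r
  rw [IntermediateField.adjoin_simple_toSubalgebra_of_isAlgebraic (Algebra.IsAlgebraic.isAlgebraic _),
    Algebra.adjoin_singleton_eq_range_aeval] at hr
  obtain ⟨g, hg : Polynomial.aeval (r ^ p) g = r⟩ := hr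
  obtain ⟨q, hq⟩ : minpoly K x ∣ Polynomial.X - g.comp (Polynomial.X ^ p) := by
    rw [← AdjoinRoot.mk_eq_zero, ← AdjoinRoot.aeval_eq, map_sub, Polynomial.aeval_comp]
    simp [r, hg]
  have h2 := congrArg (Polynomial.aeval x) hq
  rw [map_sub, map_mul, minpoly.aeval, zero_mul, Polynomial.aeval_comp, sub_eq_zero] at h2
  simp only [Polynomial.aeval_X, map_pow] at h2
  have hcomm : x ^ p ∈ Subalgebra.centralizer K {z} := by
    rw [Subalgebra.mem_centralizer_iff]; rintro _ rfl; exact h
  have h3 : x ∈ Subalgebra.centralizer K {z} := by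
    rw [h2]
    exact Algebra.adjoin_le (Set.singleton_subset_iff.2 hcomm)
      (Algebra.adjoin_singleton_eq_range_aeval K (x ^ p) ▸ AlgHom.mem_range_self _ g)
  exact (Subalgebra.mem_centralizer_iff K).1 h3 z rfl

/-- the dimension of a subalgebra of a division algebra divides the dimension -/
theorem finrank_subalgebra_dvd (D : Subalgebra K A) :
    Module.finrank K D ∣ Module.finrank K A := by
  letI : DivisionRing D := divisionRingOfFiniteDimensional K D
  haveI : Module.Free D A := Module.Free.of_divisionRing D A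
  exact ⟨_, (Module.finrank_mul_finrank K D A).symm⟩

/-- the evaluation map `K[x] → A` -/
noncomputable def evalHom (x : A) : AdjoinRoot (minpoly K x) →ₐ[K] A :=
  Ideal.Quotient.liftₐ (Ideal.span {minpoly K x}) (Polynomial.aeval x) fun q hq => by
    obtain ⟨t, rfl⟩ := Ideal.mem_span_singleton.1 hq
    rw [map_mul, minpoly.aeval, zero_mul]

theorem evalHom_mk (x : A) (q : K[X]) :
    evalHom x (AdjoinRoot.mk (minpoly K x) q) = Polynomial.aeval x q := rfl

theorem evalHom_root (x : A) : evalHom x (AdjoinRoot.root (minpoly K x)) = x := by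
  rw [← AdjoinRoot.mk_X, evalHom_mk, Polynomial.aeval_X]

theorem evalHom_injective (x : A) : Function.Injective (evalHom (K := K) x) := by
  haveI : Fact (Irreducible (minpoly K x)) :=
    ⟨minpoly.irreducible (Algebra.IsIntegral.isIntegral x)⟩
  exact RingHom.injective (evalHom (K := K) x).toRingHom

theorem natDegree_and_centralizer (p : ℕ) [Fact p.Prime] [Algebra.IsCentral K A]
    (hA : Module.finrank K A = p ^ 2) {x y : A} (hxy : y * x ≠ x * y) :
    (minpoly K x).natDegree = p ∧
      ∀ w : A, x * w = w * x → ∃ r : AdjoinRoot (minpoly K x), evalHom x r = w := by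
  have hp : p.Prime := Fact.out
  set F := (evalHom (K := K) x).range
  set C := Subalgebra.centralizer K ({x} : Set A)
  have hFC : F ≤ C := by
    rintro _ ⟨r, rfl⟩
    rw [Subalgebra.mem_centralizer_iff]
    intro g hg
    rw [Set.mem_singleton_iff.1 hg]
    show x * evalHom x r = evalHom x r * x
    rw [← congrArg (· * evalHom x r) (evalHom_root (K := K) x),
      ← congrArg (evalHom x r * ·) (evalHom_root (K := K) x), ← map_mul, ← map_mul, mul_comm]
  have hFne : Module.finrank K F ≠ 1 := by
    intro h
    rw [Subalgebra.finrank_eq_one_iff] at h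
    have : x ∈ (⊥ : Subalgebra K A) := h ▸ ⟨_, evalHom_root x⟩
    obtain ⟨c, rfl⟩ := Algebra.mem_bot.1 this
    exact hxy (Algebra.commutes c y).symm
  have hCne : Module.finrank K C ≠ p ^ 2 := by
    intro h
    rw [← hA] at h
    have h' : C = ⊤ := Subalgebra.toSubmodule_injective
      (by rw [Algebra.top_toSubmodule]; exact Submodule.eq_top_of_finrank_eq h)
    have : y ∈ C := h' ▸ Algebra.mem_top
    exact hxy ((Subalgebra.mem_centralizer_iff K).1 this x rfl).symm
  have key : ∀ d, d ∣ p ^ 2 → d = 1 ∨ d = p ∨ d = p ^ 2 := by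
    intro d hd
    obtain ⟨i, hi, rfl⟩ := (Nat.dvd_prime_pow hp).1 hd
    interval_cases i <;> simp
  have hle : Module.finrank K F ≤ Module.finrank K C :=
    Submodule.finrank_mono (Subalgebra.toSubmodule.monotone hFC)
  have hF : Module.finrank K F = p ∧ Module.finrank K C = p := by
    have h1 := key _ (hA ▸ finrank_subalgebra_dvd F)
    have h2 := key _ (hA ▸ finrank_subalgebra_dvd C)
    have : 2 ≤ p := hp.two_le
    have : p < p ^ 2 := by nlinarith
    rcases h1 with h1 | h1 | h1 <;> rcases h2 with h2 | h2 | h2 <;> omega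
  refine ⟨?_, fun w hw => ?_⟩
  · rw [← hF.1, ← (AlgEquiv.ofInjective _ (evalHom_injective x)).toLinearEquiv.finrank_eq,
      (AdjoinRoot.powerBasis (minpoly.ne_zero (Algebra.IsIntegral.isIntegral x))).finrank,
      AdjoinRoot.powerBasis_dim]
  · have hwC : w ∈ C := by
      rw [Subalgebra.mem_centralizer_iff]; rintro _ rfl; exact hw
    have : F = C := Subalgebra.eq_of_le_of_finrank_eq hFC (hF.1.trans hF.2.symm)
    rw [← this] at hwC
    exact hwC

theorem exists_not_isSeparable_of_splits (p : ℕ) [Fact p.Prime] [CharP K p] [Algebra.IsCentral K A]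
    (hA : Module.finrank K A = p ^ 2) {x : A} (hs : IsSeparable K x)
    (hd : (minpoly K x).natDegree = p)
    (hsp : ((minpoly K x).map (algebraMap K (AdjoinRoot (minpoly K x)))).Splits) :
    ∃ v : A, ¬ IsSeparable K v := by
  have hint : IsIntegral K x := Algebra.IsIntegral.isIntegral x
  haveI : Fact (Irreducible (minpoly K x)) := ⟨minpoly.irreducible hint⟩
  haveI : IsSplittingField K (AdjoinRoot (minpoly K x)) (minpoly K x) := by
    refine ⟨hsp, ?_⟩
    rw [eq_top_iff, ← AdjoinRoot.adjoinRoot_eq_top]
    refine Algebra.adjoin_mono (Set.singleton_subset_iff.2 ?_)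
    rw [Polynomial.mem_rootSet_of_ne (minpoly.ne_zero hint)]
    exact AdjoinRoot.aeval_eq (minpoly K x) ▸ AdjoinRoot.mk_self
  haveI : IsGalois K (AdjoinRoot (minpoly K x)) := IsGalois.of_separable_splitting_field hs
  refine S15171.result K p A hA (AdjoinRoot (minpoly K x)) ?_ (evalHom x)
  rw [(AdjoinRoot.powerBasis (minpoly.ne_zero hint)).finrank, AdjoinRoot.powerBasis_dim, hd]

section cubic

variable (a b c : K)

/-- cubic -/
def Cub (x : A) : Prop := x * x * x - a • (x * x) + b • x - c • (1 : A) = 0

/-- Wedderburn relation: `X^3-aX^2+bX-c` has right divisor `(X-y)(X-x)` -/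
def Rel (x y : A) : Prop := y * y + x * y - a • y + x * x - a • x + b • (1 : A) = 0

variable {a b c}

theorem cub_of_rel {x y : A} (hx : Cub a b c x) (h : Rel a b x y) : Cub a b c y := by
  have h1 := congrArg (· * y) h
  have h2 := congrArg (x * ·) h
  simp only [Cub] at hx ⊢
  simp only [mul_add, add_mul, mul_sub, sub_mul, smul_mul_assoc, mul_smul_comm, mul_one, one_mul,
    mul_zero, zero_mul, mul_assoc] at h1 h2 hx ⊢
  linear_combination (norm := module) h1 - h2 + hx

theorem comm_rel {x y : A} (hx : Cub a b c x) (h : Rel a b x y) :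
    (x * y - y * x) * x = y * (x * y - y * x) := by
  have hy := cub_of_rel hx h
  have h1 := congrArg (· * x) h
  have h2 := congrArg (y * ·) h
  simp only [Cub] at hx hy
  simp only [mul_add, add_mul, mul_sub, sub_mul, smul_mul_assoc, mul_smul_comm, mul_one, one_mul,
    mul_zero, zero_mul, mul_assoc] at h1 h2 hx hy ⊢
  linear_combination (norm := module) h1 - h2 - hx + hy

theorem rel_next {x y : A} (h : Rel a b x y) : Rel a b y (a • 1 - x - y) := by
  simp only [Rel] at h ⊢
  simp only [mul_add, add_mul, mul_sub, sub_mul, smul_mul_assoc, mul_smul_comm, mul_one, one_mul,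
    smul_sub, smul_smul, mul_assoc] at h ⊢
  linear_combination (norm := module) h

theorem rel_of_root {x x' : A} (hx : Cub a b c x) (hx' : Cub a b c x') (hne : x' - x ≠ 0) :
    Rel a b x ((x' - x) * x' * (x' - x)⁻¹) := by
  set d := x' - x with hd
  set y := d * x' * d⁻¹
  have hy : y * d = d * x' := inv_mul_cancel_right₀ hne _
  refine (mul_eq_zero.1 (?_ : _ * d = 0)).resolve_right hne
  have e : y * (y * d) = d * (x' * x') := by rw [hy, ← mul_assoc, hy, mul_assoc]
  simp only [Cub] at hx hx'
  simp only [add_mul, sub_mul, smul_mul_assoc, one_mul, mul_assoc] at hx hx' hy e ⊢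
  rw [e, hy, hd]
  simp only [mul_sub, sub_mul, smul_sub, mul_assoc]
  linear_combination (norm := module) hx' - hx

end cubic

end Groth.Agent.BddFin
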