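import Mathlib.Algebra.Polynomial.Laurent
import Mathlib.RingTheory.TensorProduct.Maps
import Mathlib.RingTheory.TensorProduct.Basic
import Mathlib.RingTheory.Polynomial.UniqueFactorization
import Mathlib.Algebra.Polynomial.Splits
import Mathlib.Data.Set.Card
import Mathlib.GroupTheory.OrderOfElement
import Mathlib.RingTheory.Flat.Basic
import Mathlib.LinearAlgebra.Basis.VectorSpace

/-! Finite groups of automorphisms of a twisted form of the Laurent polynomials. -/

set_option autoImplicit false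

universe u v w

open scoped TensorProduct LaurentPolynomial
open LaurentPolynomial (C T)

namespace Groth.Agent.BddFin

variable {L : Type v} [Field L]

theorem isUnit_laurent {f : L[T;T⁻¹]} (hf : IsUnit f) : ∃ (c : L) (m : ℤ), c ≠ 0 ∧ f = C c * T m := by
  obtain ⟨g, hg⟩ := hf.exists_right_inv
  obtain ⟨a, p, hp⟩ := LaurentPolynomial.exists_T_pow f
  obtain ⟨b, r, hr⟩ := LaurentPolynomial.exists_T_pow g
  have hpr : p * r = Polynomial.X ^ (a + b) := Polynomial.toLaurent_injective (by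
    rw [map_mul, hp, hr, Polynomial.toLaurent_X_pow, mul_mul_mul_comm, hg, one_mul, ← LaurentPolynomial.T_add,
      Nat.cast_add])
  obtain ⟨i, -, hi⟩ := (dvd_prime_pow Polynomial.prime_X _).1 (Dvd.intro r hpr)
  obtain ⟨u, hu⟩ := hi.symm
  obtain ⟨c, hc, hcu⟩ := Polynomial.isUnit_iff.1 u.isUnit
  refine ⟨c, (i : ℤ) - a, hc.ne_zero, ?_⟩
  have : f * T a = C c * T i := by
    rw [← hp, ← hu, ← hcu, map_mul, Polynomial.toLaurent_X_pow, Polynomial.toLaurent_C, mul_comm]
  calc f = f * T a * T (-a) := by rw [LaurentPolynomial.mul_T_assoc, add_neg_cancel, LaurentPolynomial.T_zero, mul_one]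
    _ = _ := by rw [this, LaurentPolynomial.mul_T_assoc, sub_eq_add_neg]

theorem monomial_inj {a b : L} {m n : ℤ} (ha : a ≠ 0) (h : C a * T m = C b * T n) : m = n ∧ a = b := by
  have h1 := congrArg (fun f : L[T;T⁻¹] => f.coeff m) h
  simp only [← LaurentPolynomial.single_eq_C_mul_T, AddMonoidAlgebra.coeff_single, Finsupp.single_apply, if_true] at h1
  split_ifs at h1 with hn
  · exact ⟨hn.symm, h1⟩
  · exact absurd h1 ha

theorem algHom_C (e : L[T;T⁻¹] →ₐ[L] L[T;T⁻¹]) (a : L) : e (C a) = C a := by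
  rw [LaurentPolynomial.C_eq_algebraMap, AlgHom.commutes]

theorem algEquiv_C (e : L[T;T⁻¹] ≃ₐ[L] L[T;T⁻¹]) (a : L) : e (C a) = C a := by
  rw [LaurentPolynomial.C_eq_algebraMap, AlgEquiv.commutes]

theorem monomial_ne_zero {a : L} (ha : a ≠ 0) (n : ℤ) : C a * T n ≠ (0 : L[T;T⁻¹]) := fun h =>
  ha (monomial_inj (b := 0) (n := n) ha (by rw [h, map_zero, zero_mul])).2

theorem T_pow' (m : ℤ) : ∀ (e : L[T;T⁻¹] →ₐ[L] L[T;T⁻¹]) (c : L) (n : ℤ), c ≠ 0 → e (T 1) = C c * T n →
    ∃ d : L, d ≠ 0 ∧ e (T m) = C d * T (n * m) := by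
  intro e c n hc he
  induction m using Int.induction_on with
  | zero => exact ⟨1, one_ne_zero, by simp⟩
  | succ i ih =>
    obtain ⟨d, hd, hd'⟩ := ih
    refine ⟨d * c, mul_ne_zero hd hc, ?_⟩
    rw [LaurentPolynomial.T_add, map_mul, hd', he, map_mul C, mul_mul_mul_comm, ← LaurentPolynomial.T_add,
      mul_add, mul_one]
  | pred i ih =>
    obtain ⟨d, hd, hd'⟩ := ih
    refine ⟨d / c, div_ne_zero hd hc, ?_⟩
    have h2 : e (T (-(i : ℤ) - 1)) * e (T 1) = C d * T (n * -(i : ℤ)) := by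
      rw [← map_mul, ← LaurentPolynomial.T_add, sub_add_cancel, hd']
    rw [he] at h2
    apply mul_right_cancel₀ (b := C c * T n) (monomial_ne_zero hc n)
    rw [h2, mul_mul_mul_comm, ← map_mul, div_mul_cancel₀ _ hc, ← LaurentPolynomial.T_add, mul_sub, mul_one,
      sub_add_cancel]

theorem exists_of_equiv (e : L[T;T⁻¹] ≃ₐ[L] L[T;T⁻¹]) :
    ∃ c : L, c ≠ 0 ∧ (e (T 1) = C c * T 1 ∨ e (T 1) = C c * T (-1)) := by
  obtain ⟨c, n, hc, hn⟩ := isUnit_laurent ((LaurentPolynomial.isUnit_T (R := L) 1).map e)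
  obtain ⟨c', n', hc', hn'⟩ := isUnit_laurent ((LaurentPolynomial.isUnit_T (R := L) 1).map e.symm)
  obtain ⟨d, hd, hd'⟩ := T_pow' n' e.toAlgHom c n hc hn
  have h1 : e (e.symm (T 1)) = C (c' * d) * T (n * n') := by
    rw [hn', map_mul, algEquiv_C]
    erw [hd']
    rw [map_mul C, mul_assoc]
  rw [AlgEquiv.apply_symm_apply, show (T 1 : L[T;T⁻¹]) = C 1 * T 1 by rw [map_one, one_mul]] at h1
  obtain ⟨hnn, -⟩ := monomial_inj one_ne_zero h1
  refine ⟨c, hc, ?_⟩
  rcases Int.eq_one_or_neg_one_of_mul_eq_one hnn.symm with h | h <;> subst h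
  · exact Or.inl hn
  · exact Or.inr hn

section Twist

variable {K : Type u} [Field K] [Algebra K L] (conj : L →ₐ[K] L)

/-- The semilinear involution `t ↦ t⁻¹`. -/
noncomputable def tau : L[T;T⁻¹] →+* L[T;T⁻¹] :=
  LaurentPolynomial.eval₂ (C.comp conj.toRingHom) (LaurentPolynomial.isUnit_T (-1)).unit

theorem tau_C (a : L) : tau conj (C a) = C (conj a) := LaurentPolynomial.eval₂_C _ _ _

theorem tau_T : tau conj (T 1) = T (-1) := by
  rw [tau, LaurentPolynomial.eval₂_T, zpow_one, IsUnit.unit_spec]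

theorem tau_T_neg : tau conj (T (-1)) = T 1 := by
  rw [tau, LaurentPolynomial.eval₂_T, zpow_neg_one]
  exact Units.inv_eq_of_mul_eq_one_right (by rw [IsUnit.unit_spec, ← LaurentPolynomial.T_add]; simp)

variable {U : Type w} [CommRing U] [Algebra K U] (Φ : L ⊗[K] U ≃ₐ[L] L[T;T⁻¹])
  (hτ : ∀ u : U, tau conj (Φ ((1 : L) ⊗ₜ[K] u)) = Φ ((1 : L) ⊗ₜ[K] u))

/-- The extension of an automorphism. -/
noncomputable def ext (g : U ≃ₐ[K] U) : L[T;T⁻¹] ≃ₐ[L] L[T;T⁻¹] :=
  (Φ.symm.trans (Algebra.TensorProduct.congr (AlgEquiv.refl : L ≃ₐ[L] L) g)).trans Φ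

theorem ext_apply (g : U ≃ₐ[K] U) (t : L ⊗[K] U) :
    ext Φ g (Φ t) = Φ (Algebra.TensorProduct.map (AlgHom.id L L) g.toAlgHom t) := by
  show Φ ((Algebra.TensorProduct.congr (AlgEquiv.refl : L ≃ₐ[L] L) g) (Φ.symm (Φ t))) = _
  rw [AlgEquiv.symm_apply_apply]
  rfl

theorem ext_one (f : L[T;T⁻¹]) : ext Φ (1 : U ≃ₐ[K] U) f = f := by
  obtain ⟨t, rfl⟩ := Φ.surjective f
  rw [ext_apply]
  congr 1
  induction t using TensorProduct.induction_on with
  | zero => simp
  | tmul a u => rfl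
  | add x y hx hy => rw [map_add, hx, hy]

theorem ext_mul (g h : U ≃ₐ[K] U) (f : L[T;T⁻¹]) : ext Φ (g * h) f = ext Φ g (ext Φ h f) := by
  obtain ⟨t, rfl⟩ := Φ.surjective f
  rw [ext_apply, ext_apply, ext_apply]
  congr 1
  induction t using TensorProduct.induction_on with
  | zero => simp
  | tmul a u => rfl
  | add x y hx hy => rw [map_add, map_add, map_add, hx, hy]

theorem ext_hom_ext {e e' : L[T;T⁻¹] →ₐ[L] L[T;T⁻¹]} (h : e (T 1) = e' (T 1)) : e = e' := by
  refine AlgHom.ext fun f => ?_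
  induction f using LaurentPolynomial.induction_on_mul_T with
  | _ p n =>
    have hp : ∀ q : Polynomial L, e (Polynomial.toLaurent q) = e' (Polynomial.toLaurent q) := fun q => by
      induction q using Polynomial.induction_on' with
      | add a b ha hb => rw [map_add, map_add, map_add, ha, hb]
      | monomial m a =>
        rw [← Polynomial.C_mul_X_pow_eq_monomial, map_mul, map_pow, Polynomial.toLaurent_C,
          Polynomial.toLaurent_X, map_mul, map_mul, map_pow, map_pow, h,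
          algHom_C, algHom_C]
    have hT : e (T (-(n : ℤ))) = e' (T (-(n : ℤ))) := by
      have h2 : ∀ f : L[T;T⁻¹] →ₐ[L] L[T;T⁻¹], f (T (-(n : ℤ))) * f (T (n : ℤ)) = 1 := fun f => by
        rw [← map_mul, ← LaurentPolynomial.T_add, neg_add_cancel, LaurentPolynomial.T_zero, map_one]
      have h3 : e (T (n : ℤ)) = e' (T (n : ℤ)) := by rw [← Polynomial.toLaurent_X_pow]; exact hp _
      exact left_inv_eq_right_inv (h2 e) (by rw [mul_comm, h3]; exact h2 e')
    rw [map_mul, map_mul, hp, hT]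

include hτ in
theorem ext_tau (g : U ≃ₐ[K] U) (f : L[T;T⁻¹]) : ext Φ g (tau conj f) = tau conj (ext Φ g f) := by
  obtain ⟨t, rfl⟩ := Φ.surjective f
  have key : ∀ (a : L) (u : U), tau conj (Φ (a ⊗ₜ[K] u)) = Φ (conj a ⊗ₜ[K] u) := fun a u => by
    have h : ∀ a : L, Φ (a ⊗ₜ[K] u) = C a * Φ ((1 : L) ⊗ₜ[K] u) := fun a => by
      rw [show a ⊗ₜ[K] u = a • ((1 : L) ⊗ₜ[K] u) by rw [TensorProduct.smul_tmul', smul_eq_mul, mul_one],
        map_smul, LaurentPolynomial.smul_eq_C_mul]
    rw [h, map_mul, tau_C, hτ, ← h]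
  induction t using TensorProduct.induction_on with
  | zero => simp
  | tmul a u =>
    rw [key, ext_apply, ext_apply, Algebra.TensorProduct.map_tmul, Algebra.TensorProduct.map_tmul,
      AlgHom.id_apply, AlgHom.id_apply, key]
  | add x y hx hy => simp only [map_add, hx, hy]

include hτ in
theorem conj_coeff (g : U ≃ₐ[K] U) {c : L} (hc : c ≠ 0)
    (h : ext Φ g (T 1) = C c * T 1 ∨ ext Φ g (T 1) = C c * T (-1)) : c * conj c = 1 := by
  have h1 : ext Φ g (T (-1)) * ext Φ g (T 1) = 1 := by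
    rw [← map_mul, ← LaurentPolynomial.T_add]; simp
  rw [← tau_T conj, ext_tau conj Φ hτ] at h1
  have e : C (c * conj c) * T 0 = C (1 : L) * T 0 := by
    rcases h with h | h <;>
      rw [h, map_mul, tau_C] at h1 <;> first
        | (rw [tau_T, mul_mul_mul_comm, ← map_mul C, ← LaurentPolynomial.T_add] at h1
           rw [mul_comm c]; simpa using h1)
        | (rw [tau_T_neg, mul_mul_mul_comm, ← map_mul C, ← LaurentPolynomial.T_add] at h1
           rw [mul_comm c]; simpa using h1)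
  exact (monomial_inj (mul_ne_zero hc ((map_ne_zero_iff conj conj.injective).2 hc)) e).2

variable (hroot : ∀ (c : L) (N : ℕ), 0 < N → c ^ N = 1 → conj c = c)

include hτ hroot in
/-- Finite groups of automorphisms have exponent two and order at most four. -/
theorem exponent_two_card (G : Subgroup (U ≃ₐ[K] U)) [Finite G] :
    (∀ g ∈ G, g ^ 2 = 1) ∧ Nat.card G ≤ 4 := by
  classical
  have hfaith : ∀ g h : U ≃ₐ[K] U, ext Φ g (T 1) = ext Φ h (T 1) → g = h := by
    intro g h hgh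
    refine AlgEquiv.ext fun u => ?_
    have h1 := congrArg (fun e : L[T;T⁻¹] →ₐ[L] L[T;T⁻¹] => Φ.symm (e (Φ ((1 : L) ⊗ₜ[K] u))))
      (ext_hom_ext (e := (ext Φ g).toAlgHom) (e' := (ext Φ h).toAlgHom) hgh)
    simp only [AlgEquiv.coe_toAlgHom, ext_apply, AlgEquiv.symm_apply_apply, Algebra.TensorProduct.map_tmul,
      AlgHom.id_apply] at h1
    exact Algebra.TensorProduct.includeRight_injective (R := K) (A := L) (B := U) (algebraMap K L).injective h1
  have hpm : ∀ g ∈ G, ∀ c : L, c ≠ 0 → ext Φ g (T 1) = C c * T 1 → c = 1 ∨ c = -1 := by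
    intro g hg c hc h
    have hpow : ∀ N : ℕ, ext Φ (g ^ N) (T 1) = C (c ^ N) * T 1 := fun N => by
      induction N with
      | zero => rw [pow_zero, ext_one, pow_zero, map_one, one_mul]
      | succ N ih =>
        rw [pow_succ', ext_mul, ih, map_mul, algEquiv_C, h, ← mul_assoc, ← map_mul C, pow_succ]
    have hN : g ^ orderOf (⟨g, hg⟩ : G) = 1 := by
      have := pow_orderOf_eq_one (⟨g, hg⟩ : G)
      exact congrArg Subtype.val this
    have h2 := hpow (orderOf (⟨g, hg⟩ : G))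
    rw [hN, ext_one] at h2
    have h2' : C (1 : L) * T 1 = C (c ^ orderOf (⟨g, hg⟩ : G)) * T 1 := by rw [map_one, one_mul]; exact h2
    have h3 := (monomial_inj one_ne_zero h2').2
    have hcc := conj_coeff conj Φ hτ g hc (Or.inl h)
    rw [hroot c _ (orderOf_pos _) h3.symm] at hcc
    exact mul_self_eq_one_iff.1 hcc
  have hflip : ∀ g h : U ≃ₐ[K] U, ∀ c d : L, c ≠ 0 → d ≠ 0 → ext Φ g (T 1) = C c * T (-1) →
      ext Φ h (T 1) = C d * T (-1) → ext Φ (g * h) (T 1) = C (d / c) * T 1 := by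
    intro g h c d hc hd hg hh
    have hinv : ext Φ g (T (-1)) = C c⁻¹ * T 1 := by
      have h1 : ext Φ g (T (-1)) * ext Φ g (T 1) = 1 := by
        rw [← map_mul, ← LaurentPolynomial.T_add]; simp
      rw [hg] at h1
      refine left_inv_eq_right_inv h1 ?_
      rw [mul_mul_mul_comm, ← map_mul C, mul_inv_cancel₀ hc, ← LaurentPolynomial.T_add]
      simp
    rw [ext_mul, hh, map_mul, algEquiv_C, hinv, ← mul_assoc, ← map_mul C, div_eq_mul_inv]
  refine ⟨fun g hg => hfaith _ _ ?_, ?_⟩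
  · obtain ⟨c, hc, h | h⟩ := exists_of_equiv (ext Φ g)
    · rw [sq, ext_mul, h, map_mul, algEquiv_C, h, ← mul_assoc, ext_one]
      rcases hpm g hg c hc h with rfl | rfl <;> simp
    · rw [sq, hflip g g c c hc hc h h, div_self hc, ext_one, map_one, one_mul]
  · let S : Set L[T;T⁻¹] := (fun g : G => ext Φ (g : U ≃ₐ[K] U) (T 1)) '' Set.univ
    have hcard : Nat.card G = S.ncard := by
      rw [Set.ncard_image_of_injective _ fun a b h => Subtype.ext (hfaith _ _ h), Set.ncard_univ]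
    rw [hcard]
    by_cases hm : ∃ g₀ : G, ∃ c, c ≠ 0 ∧ ext Φ (g₀ : U ≃ₐ[K] U) (T 1) = C c * T (-1)
    · obtain ⟨g₀, c₀, hc₀, h₀⟩ := hm
      refine le_trans (Set.ncard_le_ncard (t := {C (1 : L) * T 1, C (-1) * T 1, C c₀ * T (-1), C (-c₀) * T (-1)})
        ?_ (Set.toFinite _)) ?_
      · rintro x ⟨g, -, rfl⟩
        obtain ⟨c, hc, h | h⟩ := exists_of_equiv (ext Φ (g : U ≃ₐ[K] U))
        · rcases hpm _ g.2 c hc h with rfl | rfl <;> simp [h]
        · have hx : c = c₀ ∨ c = -c₀ := by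
            rcases hpm _ (G.mul_mem g₀.2 g.2) (c / c₀) (div_ne_zero hc hc₀) (hflip _ _ c₀ c hc₀ hc h₀ h) with h1 | h1
            · left; rwa [div_eq_one_iff_eq hc₀] at h1
            · right; rw [div_eq_iff hc₀] at h1; rw [h1, neg_one_mul]
          rcases hx with rfl | rfl <;> simp [h]
      · refine (Set.ncard_insert_le _ _).trans (Nat.succ_le_succ ?_)
        refine (Set.ncard_insert_le _ _).trans (Nat.succ_le_succ ?_)
        refine (Set.ncard_insert_le _ _).trans (Nat.succ_le_succ ?_)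
        rw [Set.ncard_singleton]
    · push Not at hm
      refine le_trans (Set.ncard_le_ncard (t := {C (1 : L) * T 1, C (-1) * T 1}) ?_ (Set.toFinite _)) ?_
      · rintro x ⟨g, -, rfl⟩
        obtain ⟨c, hc, h | h⟩ := exists_of_equiv (ext Φ (g : U ≃ₐ[K] U))
        · rcases hpm _ g.2 c hc h with rfl | rfl <;> simp [h]
        · exact absurd h (hm g c hc)
      · refine (Set.ncard_insert_le _ _).trans ?_
        rw [Set.ncard_singleton]
        norm_num

end Twist

end Groth.Agent.BddFin
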