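import Groth.Agent.BddFin.Laurent
import Mathlib.RingTheory.GradedAlgebra.HomogeneousLocalization
import Mathlib.RingTheory.MvPolynomial.Homogeneous
import Mathlib.RingTheory.AdjoinRoot
import Mathlib.Algebra.Polynomial.SpecificDegree
import Mathlib.Tactic.LinearCombination
import Mathlib.Tactic.FieldSimp

/-! The projective line minus a quadratic point. -/

set_option autoImplicit false

universe u v

open scoped TensorProduct LaurentPolynomial
open LaurentPolynomial (C T)

attribute [local instance] MvPolynomial.gradedAlgebra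

namespace Groth.Agent.BddFin

variable {K : Type u} [Field K] {L : Type v} [Field L] [Algebra K L] (α β : L)

/-- `X`. -/
noncomputable def gX : L[T;T⁻¹] := C (β / (β - α)) * T 1 - C (α / (β - α))
/-- `Y`. -/
noncomputable def gY : L[T;T⁻¹] := C (1 / (β - α)) * T 1 - C (1 / (β - α))

theorem gX_sub (hne : β - α ≠ 0) : gX α β - C α * gY α β = T 1 := by
  rw [gX, gY, mul_sub, ← mul_assoc, ← map_mul,
    show C (β / (β - α)) * T 1 - C (α / (β - α)) -
      (C (α * (1 / (β - α))) * T 1 - C (α * (1 / (β - α)))) =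
      (C (β / (β - α)) - C (α * (1 / (β - α)))) * T 1 - (C (α / (β - α)) - C (α * (1 / (β - α)))) by ring,
    ← map_sub, ← map_sub]
  rw [show β / (β - α) - α * (1 / (β - α)) = 1 by field_simp,
    show α / (β - α) - α * (1 / (β - α)) = 0 by ring, map_one, map_zero, one_mul, sub_zero]

theorem gX_sub' (hne : β - α ≠ 0) : gX α β - C β * gY α β = 1 := by
  rw [gX, gY, mul_sub, ← mul_assoc, ← map_mul,
    show C (β / (β - α)) * T 1 - C (α / (β - α)) -
      (C (β * (1 / (β - α))) * T 1 - C (β * (1 / (β - α)))) =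
      (C (β / (β - α)) - C (β * (1 / (β - α)))) * T 1 + (C (β * (1 / (β - α))) - C (α / (β - α))) by ring,
    ← map_sub, ← map_sub]
  rw [show β / (β - α) - β * (1 / (β - α)) = 0 by ring,
    show β * (1 / (β - α)) - α / (β - α) = 1 by field_simp, map_one, map_zero, zero_mul, zero_add]

/-- The dehomogenisation. -/
noncomputable def deh : MvPolynomial (Fin 2) K →ₐ[K] L[T;T⁻¹] := MvPolynomial.aeval ![gX α β, gY α β]

theorem deh_injective (hne : β - α ≠ 0) {d : ℕ} {F : MvPolynomial (Fin 2) K} (hF : F.IsHomogeneous d)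
    (h0 : deh α β F = 0) : F = 0 := by
  classical
  let F' : MvPolynomial (Fin 2) L := MvPolynomial.map (algebraMap K L) F
  let e := 1 / (β - α)
  let s : Fin 2 → MvPolynomial (Fin 2) L :=
    ![MvPolynomial.C (β * e) * MvPolynomial.X 0 - MvPolynomial.C (α * e) * MvPolynomial.X 1,
      MvPolynomial.C e * MvPolynomial.X 0 - MvPolynomial.C e * MvPolynomial.X 1]
  let r : Fin 2 → MvPolynomial (Fin 2) L :=
    ![MvPolynomial.X 0 - MvPolynomial.C α * MvPolynomial.X 1, MvPolynomial.X 0 - MvPolynomial.C β * MvPolynomial.X 1]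
  let G := MvPolynomial.aeval s F'
  have hlin : ∀ (a b : L), (MvPolynomial.C a * MvPolynomial.X (0 : Fin 2) - MvPolynomial.C b * MvPolynomial.X 1).IsHomogeneous 1 :=
    fun a b => ((MvPolynomial.isHomogeneous_X L 0).C_mul a).sub ((MvPolynomial.isHomogeneous_X L 1).C_mul b)
  have hG : G.IsHomogeneous d := by
    have h1 := (hF.map (algebraMap K L)).aeval s (n := 1) fun i => by
      fin_cases i
      · exact hlin _ _
      · exact hlin _ _
    rwa [one_mul] at h1
  have hdeg : MvPolynomial.aeval ![(T 1 : L[T;T⁻¹]), 1] G = 0 := by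
    rw [← h0]
    show ((MvPolynomial.aeval ![(T 1 : L[T;T⁻¹]), 1]).comp (MvPolynomial.aeval s)) (MvPolynomial.map (algebraMap K L) F) = _
    rw [MvPolynomial.comp_aeval, MvPolynomial.aeval_map_algebraMap]
    congr 2
    funext i
    fin_cases i
    · simp [s, gX, e, LaurentPolynomial.algebraMap_apply, div_eq_mul_inv]
    · simp [s, gY, e, LaurentPolynomial.algebraMap_apply, div_eq_mul_inv]
  have hG0 : G = 0 := by
    refine MvPolynomial.ext _ _ fun m => ?_
    rw [MvPolynomial.coeff_zero]
    by_contra hm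
    have hmd := hG hm
    have key : (MvPolynomial.aeval ![(T 1 : L[T;T⁻¹]), 1] G).coeff (m 0 : ℤ) = G.coeff m := by
      rw [MvPolynomial.aeval_def, MvPolynomial.eval₂_eq', AddMonoidAlgebra.coeff_sum, Finset.sum_apply']
      rw [Finset.sum_eq_single m]
      · simp [Finsupp.prod_fintype, Fin.prod_univ_two, LaurentPolynomial.T_pow, LaurentPolynomial.algebraMap_apply,
          ← LaurentPolynomial.single_eq_C_mul_T]
      · intro v hv hvm
        have hvd := hG (MvPolynomial.mem_support_iff.1 hv)
        have hne' : (v 0 : ℤ) ≠ m 0 := fun h => hvm (Finsupp.ext fun i => by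
          simp only [Finsupp.weight_apply, Finsupp.sum_fintype, Fin.sum_univ_two, Pi.one_apply, smul_eq_mul,
            mul_one, zero_smul, implies_true] at hvd hmd
          have : v 0 = m 0 := by exact_mod_cast h
          fin_cases i
          · simpa using this
          · show v 1 = m 1
            omega)
        simp [Finsupp.prod_fintype, Fin.prod_univ_two, LaurentPolynomial.T_pow, LaurentPolynomial.algebraMap_apply,
          ← LaurentPolynomial.single_eq_C_mul_T, hne'.symm]
      · intro h
        simp [MvPolynomial.notMem_support_iff.1 h]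
    rw [hdeg] at key
    exact hm key.symm
  have hinv : MvPolynomial.aeval r G = F' := by
    show ((MvPolynomial.aeval r).comp (MvPolynomial.aeval s)) F' = _
    rw [MvPolynomial.comp_aeval, show (fun i => MvPolynomial.aeval r (s i)) = MvPolynomial.X from funext fun i => ?_,
      MvPolynomial.aeval_X_left, AlgHom.id_apply]
    have he : (β - α) * e = 1 := by simp [e, hne]
    fin_cases i
    · simp [s, r]
      have h2 : (MvPolynomial.C (β - α) : MvPolynomial (Fin 2) L) * MvPolynomial.C e = 1 := by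
        rw [← map_mul, he, map_one]
      rw [map_sub] at h2
      linear_combination (MvPolynomial.X (0 : Fin 2) : MvPolynomial (Fin 2) L) * h2
    · simp [s, r]
      have h2 : (MvPolynomial.C (β - α) : MvPolynomial (Fin 2) L) * MvPolynomial.C e = 1 := by
        rw [← map_mul, he, map_one]
      rw [map_sub] at h2
      linear_combination (MvPolynomial.X (1 : Fin 2) : MvPolynomial (Fin 2) L) * h2
  apply MvPolynomial.map_injective (algebraMap K L) (algebraMap K L).injective
  show F' = _
  rw [← hinv, hG0, map_zero, map_zero]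

theorem exists_lift {R : Type v} [CommRing R] [Algebra K R] (q : MvPolynomial (Fin 2) K) {d : ℕ}
    (hq : q.IsHomogeneous d) (f : MvPolynomial (Fin 2) K →ₐ[K] R) (hu : IsUnit (f q)) :
    ∃ ι : HomogeneousLocalization.Away (MvPolynomial.homogeneousSubmodule (Fin 2) K) q →+* R,
      (∀ (n : ℕ) (F : MvPolynomial (Fin 2) K) (hF : F ∈ MvPolynomial.homogeneousSubmodule (Fin 2) K (n • d)),
        ι (HomogeneousLocalization.Away.mk _ hq n F hF) * f q ^ n = f F) ∧
      ∀ (x : K) z, ι (x • z) = algebraMap K R x * ι z := by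
  let lft : Localization.Away q →+* R := IsLocalization.Away.lift q (g := f.toRingHom) hu
  have hlft : ∀ F, lft (algebraMap _ (Localization.Away q) F) = f F := fun F =>
    IsLocalization.Away.lift_eq q hu F
  refine ⟨lft.comp (algebraMap _ (Localization.Away q)), fun n F hF => ?_, fun x z => ?_⟩
  · rw [RingHom.comp_apply, HomogeneousLocalization.algebraMap_apply, HomogeneousLocalization.Away.val_mk,
      ← map_pow, ← hlft, ← map_mul, Localization.mk_eq_mk', IsLocalization.mk'_spec, hlft]
  · rw [RingHom.comp_apply, HomogeneousLocalization.algebraMap_apply, RingHom.comp_apply,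
      HomogeneousLocalization.algebraMap_apply, HomogeneousLocalization.val_smul, Algebra.smul_def, map_mul,
      IsScalarTower.algebraMap_apply K (MvPolynomial (Fin 2) K) (Localization.Away q), hlft, AlgHom.commutes]

set_option maxHeartbeats 1000000 in
/-- The main theorem. -/
theorem punct (hK : ∀ n : ℕ, 0 < n → (Polynomial.X ^ n - 1 : Polynomial K).Splits)
    (q : MvPolynomial (Fin 2) K) (hq : q.IsHomogeneous 2) (hirr : Irreducible q)
    (hdisc : (q.coeff (Finsupp.single 0 1 + Finsupp.single 1 1)) ^ 2 -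
      4 * q.coeff (Finsupp.single 0 2) * q.coeff (Finsupp.single 1 2) ≠ 0)
    (G : Subgroup (HomogeneousLocalization.Away (MvPolynomial.homogeneousSubmodule (Fin 2) K) q ≃+*
      HomogeneousLocalization.Away (MvPolynomial.homogeneousSubmodule (Fin 2) K) q)) [Finite G]
    (hG : ∀ g ∈ G, ∀ (k : K) (z : HomogeneousLocalization.Away (MvPolynomial.homogeneousSubmodule (Fin 2) K) q),
      g (k • z) = k • g z) :
    (∀ g ∈ G, g ^ 2 = 1) ∧ Nat.card G ≤ 4 := by
  classical
  set a := q.coeff (Finsupp.single 0 2) with ha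
  set b := q.coeff (Finsupp.single 0 1 + Finsupp.single 1 1) with hb
  set c := q.coeff (Finsupp.single 1 2) with hc
  have hqe : q = MvPolynomial.C a * MvPolynomial.X 0 ^ 2 + MvPolynomial.C b * (MvPolynomial.X 0 * MvPolynomial.X 1) +
      MvPolynomial.C c * MvPolynomial.X 1 ^ 2 := by
    have h01 : (MvPolynomial.X 0 * MvPolynomial.X 1 : MvPolynomial (Fin 2) K) =
        MvPolynomial.monomial (Finsupp.single 0 1 + Finsupp.single 1 1) 1 := by
      simp [MvPolynomial.X, MvPolynomial.monomial_mul]
    rw [h01, MvPolynomial.X_pow_eq_monomial, MvPolynomial.X_pow_eq_monomial, MvPolynomial.C_mul_monomial,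
      MvPolynomial.C_mul_monomial, MvPolynomial.C_mul_monomial, mul_one, mul_one, mul_one]
    refine MvPolynomial.ext _ _ fun m => ?_
    simp only [MvPolynomial.coeff_add, MvPolynomial.coeff_monomial]
    by_cases hm : Finsupp.weight (1 : Fin 2 → ℕ) m = 2
    · simp only [Finsupp.weight_apply, Finsupp.sum_fintype, Fin.sum_univ_two, Pi.one_apply, smul_eq_mul,
        mul_one, zero_smul, implies_true] at hm
      have hcases : m = Finsupp.single 0 2 ∨ m = Finsupp.single 0 1 + Finsupp.single 1 1 ∨ m = Finsupp.single 1 2 := by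
        rcases (by omega : m 0 = 2 ∧ m 1 = 0 ∨ m 0 = 1 ∧ m 1 = 1 ∨ m 0 = 0 ∧ m 1 = 2) with h | h | h
        · left; ext i; fin_cases i <;> simp [h]
        · right; left; ext i; fin_cases i <;> simp [h]
        · right; right; ext i; fin_cases i <;> simp [h]
      rcases hcases with rfl | rfl | rfl <;>
        simp [← ha, ← hb, ← hc, Finsupp.ext_iff, Fin.forall_fin_two, Finsupp.single_apply]
    · rw [show q.coeff m = 0 from by_contra fun h => hm (hq h)]
      have : ∀ v : Fin 2 →₀ ℕ, Finsupp.weight (1 : Fin 2 → ℕ) v = 2 → v ≠ m := fun v hv h => hm (h ▸ hv)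
      rw [if_neg (this _ (by simp [Finsupp.weight_apply, Finsupp.sum_fintype, Fin.sum_univ_two])),
        if_neg (this _ (by simp [Finsupp.weight_apply, Finsupp.sum_fintype, Fin.sum_univ_two])),
        if_neg (this _ (by simp [Finsupp.weight_apply, Finsupp.sum_fintype, Fin.sum_univ_two]))]
      simp
  have hunit : ∀ F : MvPolynomial (Fin 2) K, IsUnit F → MvPolynomial.eval ![0, 0] F ≠ 0 := fun F hF =>
    (hF.map (MvPolynomial.eval ![(0 : K), 0])).ne_zero
  have ha0 : a ≠ 0 := by
    intro h
    have h2 : q = MvPolynomial.X 1 * (MvPolynomial.C b * MvPolynomial.X 0 + MvPolynomial.C c * MvPolynomial.X 1) := by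
      rw [hqe, h, map_zero]; ring
    rcases hirr.isUnit_or_isUnit h2 with h3 | h3 <;> exact hunit _ h3 (by simp)
  have hnoroot : ∀ ρ : K, a * ρ ^ 2 + b * ρ + c ≠ 0 := by
    intro ρ hρ
    have h2 : q = (MvPolynomial.X 0 - MvPolynomial.C ρ * MvPolynomial.X 1) *
        (MvPolynomial.C a * MvPolynomial.X 0 + MvPolynomial.C (a * ρ + b) * MvPolynomial.X 1) := by
      rw [hqe, show c = -(a * ρ ^ 2 + b * ρ) by linear_combination hρ]
      simp only [map_add, map_mul, map_neg, map_pow]
      ring
    rcases hirr.isUnit_or_isUnit h2 with h3 | h3 <;> exact hunit _ h3 (by simp)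
  let P : Polynomial K := Polynomial.X ^ 2 + Polynomial.C (b / a) * Polynomial.X + Polynomial.C (c / a)
  have hPd : P.natDegree = 2 := by
    show (Polynomial.X ^ 2 + Polynomial.C (b / a) * Polynomial.X + Polynomial.C (c / a)).natDegree = 2
    compute_degree!
  have hP0 : P ≠ 0 := fun h => by rw [h] at hPd; simp at hPd
  haveI : Fact (Irreducible P) := ⟨by
    rw [Polynomial.irreducible_iff_roots_eq_zero_of_degree_le_three (by omega) (by omega),
      Multiset.eq_zero_iff_forall_notMem]
    intro ρ hρ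
    rw [Polynomial.mem_roots hP0] at hρ
    simp [P] at hρ
    apply hnoroot ρ
    field_simp at hρ
    linear_combination hρ⟩
  let α : AdjoinRoot P := AdjoinRoot.root P
  obtain ⟨β, hβ⟩ : ∃ β : AdjoinRoot P, β = -algebraMap K _ (b / a) - α := ⟨_, rfl⟩
  have hα : α ^ 2 + algebraMap K _ (b / a) * α + algebraMap K _ (c / a) = 0 := by
    have h := AdjoinRoot.eval₂_root P
    simp only [P, Polynomial.eval₂_add, Polynomial.eval₂_mul, Polynomial.eval₂_X_pow, Polynomial.eval₂_C,
      Polynomial.eval₂_X] at h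
    exact h
  have hprod : α * β = algebraMap K _ (c / a) := by
    rw [hβ]
    linear_combination -hα
  have hne : β - α ≠ 0 := by
    intro h
    apply hdisc
    have h2 : (β - α) ^ 2 = algebraMap K (AdjoinRoot P) ((b ^ 2 - 4 * a * c) / a ^ 2) := by
      rw [show (b ^ 2 - 4 * a * c) / a ^ 2 = (b / a) ^ 2 - 4 * (c / a) by field_simp]
      simp only [map_sub, map_mul, map_pow, map_ofNat]
      rw [hβ]
      linear_combination 4 * hα
    rw [h, zero_pow two_ne_zero, eq_comm, map_eq_zero, div_eq_zero_iff] at h2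
    rcases h2 with h2 | h2
    · exact h2
    · exact absurd h2 (pow_ne_zero _ ha0)
  let conj : AdjoinRoot P →ₐ[K] AdjoinRoot P := AdjoinRoot.liftAlgHom P (Algebra.ofId K _) β (by
    show P.eval₂ (algebraMap K (AdjoinRoot P)) β = 0
    simp only [P, Polynomial.eval₂_add, Polynomial.eval₂_mul, Polynomial.eval₂_X_pow, Polynomial.eval₂_C,
      Polynomial.eval₂_X]
    rw [hβ]
    linear_combination hα)
  have hcα : conj α = β := AdjoinRoot.liftAlgHom_root _ _ _ _
  have hcβ : conj β = α := by
    conv_lhs => rw [hβ]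
    rw [map_sub, map_neg, AlgHom.commutes, hcα, hβ]
    ring
  have hspan : ∀ l : AdjoinRoot P, ∃ x y : K, l = algebraMap K _ x + algebraMap K _ y * α := by
    intro l
    obtain ⟨p, rfl⟩ := AdjoinRoot.mk_surjective l
    induction p using Polynomial.induction_on with
    | C x => exact ⟨x, 0, by rw [map_zero, zero_mul, add_zero]; rfl⟩
    | add p r hp hr =>
      obtain ⟨x, y, h⟩ := hp; obtain ⟨x', y', h'⟩ := hr
      exact ⟨x + x', y + y', by rw [map_add, h, h', map_add, map_add]; ring⟩
    | monomial n r hp =>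
      obtain ⟨x, y, h⟩ := hp
      refine ⟨-(y * (c / a)), x - y * (b / a), ?_⟩
      rw [pow_succ, ← mul_assoc, map_mul, h, AdjoinRoot.mk_X]
      simp only [map_sub, map_mul, map_neg]
      show (algebraMap K _ x + algebraMap K _ y * α) * α = _
      linear_combination algebraMap K (AdjoinRoot P) y * hα
  -- the embedding
  let A := algebraMap K (AdjoinRoot P) a
  have hA : A ≠ 0 := (map_ne_zero _).2 ha0
  have hdq : deh α β q = C A * T 1 := by
    rw [hqe]
    simp only [deh, map_add, map_mul, map_pow, MvPolynomial.aeval_C, MvPolynomial.aeval_X, Matrix.cons_val_zero,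
      Matrix.cons_val_one, LaurentPolynomial.algebraMap_apply]
    have h1 := gX_sub α β hne
    have h2 := gX_sub' α β hne
    have hb' : algebraMap K (AdjoinRoot P) b = -(A * (α + β)) := by
      show _ = -(algebraMap K _ a * (α + β))
      rw [hβ]
      rw [show algebraMap K _ a * (α + (-algebraMap K (AdjoinRoot P) (b / a) - α)) = -(algebraMap K _ a * algebraMap K _ (b / a)) by ring,
        neg_neg, ← map_mul, mul_div_cancel₀ _ ha0]
    have hc' : algebraMap K (AdjoinRoot P) c = A * (α * β) := by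
      rw [hprod, ← map_mul, mul_div_cancel₀ _ ha0]
    rw [hb', hc']
    simp only [map_neg, map_mul, map_add]
    linear_combination (C A * (gX α β - C β * gY α β)) * h1 + (C A * T 1) * h2
  have huq : IsUnit (deh α β q) := by
    rw [hdq]
    exact ((isUnit_iff_ne_zero.2 hA).map C).mul (LaurentPolynomial.isUnit_T 1)
  let U := HomogeneousLocalization.Away (MvPolynomial.homogeneousSubmodule (Fin 2) K) q
  obtain ⟨ι, hι, hιsmul⟩ := exists_lift q hq (deh (K := K) α β) huq
  have hιinj : Function.Injective ι := by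
    rw [injective_iff_map_eq_zero]
    intro z hz
    obtain ⟨n, F, hF, rfl⟩ := HomogeneousLocalization.Away.mk_surjective _ hq z
    have h := hι n F hF
    rw [hz, zero_mul] at h
    obtain rfl := deh_injective α β hne hF h.symm
    apply HomogeneousLocalization.val_injective
    simp [HomogeneousLocalization.Away.val_mk, Localization.mk_zero]
  let algU : Algebra K U :=
    { algebraMap :=
        { toFun := fun x => x • (1 : U)
          map_one' := hιinj (by rw [hιsmul, map_one, map_one, one_mul])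
          map_mul' := fun x y => hιinj (by rw [hιsmul, map_mul, map_mul, hιsmul, hιsmul, map_one, mul_one, mul_one, mul_one])
          map_zero' := hιinj (by rw [hιsmul, map_zero, map_zero, zero_mul])
          map_add' := fun x y => hιinj (by rw [hιsmul, map_add, map_add, hιsmul, hιsmul, add_mul]) }
      commutes' := fun x z => mul_comm _ _
      smul_def' := fun x z => hιinj (by
        show ι (x • z) = ι ((x • (1 : U)) * z)
        rw [map_mul, hιsmul, hιsmul, map_one, mul_one]) }
  letI := algU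
  let ιA : U →ₐ[K] (AdjoinRoot P)[T;T⁻¹] :=
    { ι with commutes' := fun x => by show ι (x • (1 : U)) = _; rw [hιsmul, map_one, mul_one] }
  let Φ₀ : AdjoinRoot P ⊗[K] U →ₐ[AdjoinRoot P] (AdjoinRoot P)[T;T⁻¹] :=
    Algebra.TensorProduct.lift (Algebra.ofId _ _) ιA fun _ _ => Commute.all _ _
  have hΦ₀ : ∀ (l : AdjoinRoot P) (z : U), Φ₀ (l ⊗ₜ[K] z) = C l * ι z := fun l z => by
    rw [Algebra.TensorProduct.lift_tmul]
    rfl
  have hτdeh : ∀ F : MvPolynomial (Fin 2) K, ∀ d : ℕ, F.IsHomogeneous d →
      tau conj (deh α β F) = deh α β F * T (-(d : ℤ)) := by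
    intro F d hF
    have hgX : tau conj (gX α β) = gX α β * T (-1) := by
      rw [gX, map_sub, map_mul, tau_C, tau_C, tau_T, map_div₀ conj, map_div₀ conj, map_sub conj, hcα, hcβ, sub_mul, mul_assoc,
        ← LaurentPolynomial.T_add, show β / (β - α) = -(β / (α - β)) by rw [← div_neg, neg_sub],
        show α / (β - α) = -(α / (α - β)) by rw [← div_neg, neg_sub]]
      simp only [map_neg]
      rw [add_neg_cancel, LaurentPolynomial.T_zero]
      ring
    have hgY : tau conj (gY α β) = gY α β * T (-1) := by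
      rw [gY, map_sub, map_mul, tau_C, tau_T, map_div₀ conj, map_one conj, map_sub conj, hcα, hcβ, sub_mul, mul_assoc,
        ← LaurentPolynomial.T_add, show 1 / (β - α) = -(1 / (α - β)) by rw [← div_neg, neg_sub]]
      simp only [map_neg]
      rw [add_neg_cancel, LaurentPolynomial.T_zero]
      ring
    rw [MvPolynomial.as_sum F]
    simp only [map_sum, Finset.sum_mul]
    refine Finset.sum_congr rfl fun v hv => ?_
    have hvd := hF (MvPolynomial.mem_support_iff.1 hv)
    simp only [Finsupp.weight_apply, Finsupp.sum_fintype, Fin.sum_univ_two, Pi.one_apply, smul_eq_mul,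
      mul_one, zero_smul, implies_true] at hvd
    simp only [deh, MvPolynomial.aeval_monomial, Finsupp.prod_fintype, Fin.prod_univ_two, pow_zero, implies_true,
      Matrix.cons_val_zero, Matrix.cons_val_one, map_mul, map_pow, hgX, hgY, LaurentPolynomial.algebraMap_apply,
      tau_C, AlgHom.commutes, mul_pow, LaurentPolynomial.T_pow]
    rw [← hvd, show T (-((v 0 + v 1 : ℕ) : ℤ)) = (T ((v 0 : ℤ) * -1) : (AdjoinRoot P)[T;T⁻¹]) * T ((v 1 : ℤ) * -1) by
      rw [← LaurentPolynomial.T_add]; congr 1; push_cast; ring]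
    ring
  have hτι : ∀ z : U, tau conj (ι z) = ι z := by
    intro z
    obtain ⟨n, F, hF, rfl⟩ := HomogeneousLocalization.Away.mk_surjective _ hq z
    have h := hι n F hF
    have hu : deh α β q ^ n ≠ 0 := (huq.pow n).ne_zero
    have h2 := congrArg (tau conj) h
    rw [map_mul, map_pow, hτdeh q 2 hq, hτdeh F _ hF, ← h, mul_pow, LaurentPolynomial.T_pow,
      show (n : ℤ) * -((2 : ℕ) : ℤ) = -((n • 2 : ℕ) : ℤ) by simp] at h2
    refine mul_right_cancel₀ hu (mul_right_cancel₀
      (LaurentPolynomial.isUnit_T (R := AdjoinRoot P) (-((n • 2 : ℕ) : ℤ))).ne_zero ?_)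
    rw [mul_assoc]
    exact h2
  have hinj : Function.Injective Φ₀ := by
    rw [injective_iff_map_eq_zero]
    intro t ht
    obtain ⟨u, w, rfl⟩ : ∃ u w : U, t = (1 : AdjoinRoot P) ⊗ₜ[K] u + α ⊗ₜ[K] w := by
      clear ht
      induction t using TensorProduct.induction_on with
      | zero => exact ⟨0, 0, by simp⟩
      | tmul l z =>
        obtain ⟨x, y, rfl⟩ := hspan l
        refine ⟨x • z, y • z, ?_⟩
        rw [TensorProduct.add_tmul, ← Algebra.smul_def, Algebra.algebraMap_eq_smul_one, TensorProduct.smul_tmul,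
          TensorProduct.smul_tmul]
      | add s s' h h' =>
        obtain ⟨u, w, rfl⟩ := h; obtain ⟨u', w', rfl⟩ := h'
        exact ⟨u + u', w + w', by rw [TensorProduct.tmul_add, TensorProduct.tmul_add]; abel⟩
    rw [map_add, hΦ₀, hΦ₀, map_one, one_mul] at ht
    have h2 := congrArg (tau conj) ht
    rw [map_add, map_mul, tau_C, hτι, hτι, hcα, map_zero] at h2
    have h3 : C (β - α) * ι w = 0 := by rw [map_sub]; linear_combination h2 - ht
    have hw : ι w = 0 := (mul_eq_zero.1 h3).resolve_left fun h =>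
      monomial_ne_zero hne 0 (by rw [h, zero_mul])
    rw [hw, mul_zero, add_zero] at ht
    rw [hιinj (hw.trans (map_zero ι).symm), hιinj (ht.trans (map_zero ι).symm)]
    simp
  have hsurj : Function.Surjective Φ₀ := by
    have hX : (MvPolynomial.X 0 : MvPolynomial (Fin 2) K) ^ 2 ∈ MvPolynomial.homogeneousSubmodule (Fin 2) K (1 • 2) := by
      simpa using (MvPolynomial.isHomogeneous_X K (0 : Fin 2)).pow 2
    have hY : (MvPolynomial.X 1 : MvPolynomial (Fin 2) K) ^ 2 ∈ MvPolynomial.homogeneousSubmodule (Fin 2) K (1 • 2) := by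
      simpa using (MvPolynomial.isHomogeneous_X K (1 : Fin 2)).pow 2
    have hXY : (MvPolynomial.X 0 : MvPolynomial (Fin 2) K) * MvPolynomial.X 1 ∈
        MvPolynomial.homogeneousSubmodule (Fin 2) K (1 • 2) := by
      simpa using (MvPolynomial.isHomogeneous_X K (0 : Fin 2)).mul (MvPolynomial.isHomogeneous_X K (1 : Fin 2))
    let z1 : U := HomogeneousLocalization.Away.mk _ hq 1 _ hX
    let z2 : U := HomogeneousLocalization.Away.mk _ hq 1 _ hXY
    let z3 : U := HomogeneousLocalization.Away.mk _ hq 1 _ hY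
    have h1 := hι 1 _ hX
    have h2 := hι 1 _ hXY
    have h3 := hι 1 _ hY
    rw [pow_one, hdq] at h1 h2 h3
    simp only [deh, map_pow, map_mul, MvPolynomial.aeval_X, Matrix.cons_val_zero,
      Matrix.cons_val_one] at h1 h2 h3
    have hu : C A * T 1 ≠ (0 : (AdjoinRoot P)[T;T⁻¹]) := monomial_ne_zero hA 1
    have key : ∀ γ : AdjoinRoot P, Φ₀ (A ⊗ₜ[K] z1 - (2 * γ * A) ⊗ₜ[K] z2 + (γ ^ 2 * A) ⊗ₜ[K] z3) * T 1 =
        (gX α β - C γ * gY α β) ^ 2 := by
      intro γ
      rw [map_add, map_sub, hΦ₀, hΦ₀, hΦ₀]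
      simp only [map_mul, map_pow, map_ofNat]
      linear_combination h1 - 2 * C γ * h2 + C γ ^ 2 * h3
    have hT1 : (T 1 : (AdjoinRoot P)[T;T⁻¹]) ∈ Φ₀.range := by
      refine ⟨_, mul_right_cancel₀ (LaurentPolynomial.isUnit_T (1 : ℤ)).ne_zero ((key α).trans ?_)⟩
      rw [gX_sub α β hne, sq]
    have hT2 : (T (-1) : (AdjoinRoot P)[T;T⁻¹]) ∈ Φ₀.range := by
      refine ⟨_, mul_right_cancel₀ (LaurentPolynomial.isUnit_T (1 : ℤ)).ne_zero ((key β).trans ?_)⟩
      rw [gX_sub' α β hne, one_pow, ← LaurentPolynomial.T_add, neg_add_cancel, LaurentPolynomial.T_zero]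
    have hCm : ∀ l : AdjoinRoot P, C l ∈ Φ₀.range := fun l => ⟨l ⊗ₜ[K] 1, by
      show Φ₀ _ = _; rw [hΦ₀, map_one, mul_one]⟩
    intro f
    have : f ∈ Φ₀.range := by
      induction f using LaurentPolynomial.induction_on_mul_T with
      | _ p n =>
        refine Subalgebra.mul_mem _ ?_ ?_
        · induction p using Polynomial.induction_on' with
          | add p r hp hr => rw [map_add]; exact Subalgebra.add_mem _ hp hr
          | monomial m l =>
            rw [← Polynomial.C_mul_X_pow_eq_monomial, map_mul, map_pow, Polynomial.toLaurent_C, Polynomial.toLaurent_X]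
            exact Subalgebra.mul_mem _ (hCm l) (Subalgebra.pow_mem _ hT1 m)
        · rw [show -(n : ℤ) = (n : ℤ) * -1 by ring, ← LaurentPolynomial.T_pow]
          exact Subalgebra.pow_mem _ hT2 n
    exact this
  let Φ := AlgEquiv.ofBijective Φ₀ ⟨hinj, hsurj⟩
  have hτ : ∀ u : U, tau conj (Φ ((1 : AdjoinRoot P) ⊗ₜ[K] u)) = Φ ((1 : AdjoinRoot P) ⊗ₜ[K] u) := fun u => by
    simp only [Φ, AlgEquiv.coe_ofBijective]
    rw [hΦ₀, map_one, one_mul, hτι]
  have hroot : ∀ (x : AdjoinRoot P) (N : ℕ), 0 < N → x ^ N = 1 → conj x = x := by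
    intro x N hN hx
    obtain ⟨y, rfl⟩ : x ∈ (algebraMap K (AdjoinRoot P)).range := by
      refine Polynomial.Splits.mem_range_of_isRoot (hK N hN) ?_ ?_
      · exact Polynomial.X_pow_sub_C_ne_zero hN 1
      · simp [hx]
    exact conj.commutes y
  -- transport the group
  have hto : ∀ g : G, ∃ e : U ≃ₐ[K] U, ∀ z, e z = (g : U ≃+* U) z := fun g =>
    ⟨AlgEquiv.ofRingEquiv (f := (g : U ≃+* U)) fun x => by
      show (g : U ≃+* U) (x • (1 : U)) = x • (1 : U)
      rw [hG g g.2, map_one], fun z => rfl⟩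
  choose toAlg htoAlg using hto
  let G' : Subgroup (U ≃ₐ[K] U) :=
    { carrier := Set.range toAlg
      mul_mem' := by
        rintro _ _ ⟨g, rfl⟩ ⟨h, rfl⟩
        exact ⟨g * h, AlgEquiv.ext fun z => by rw [AlgEquiv.mul_apply, htoAlg, htoAlg, htoAlg]; rfl⟩
      one_mem' := ⟨1, AlgEquiv.ext fun z => by rw [htoAlg]; rfl⟩
      inv_mem' := by
        rintro _ ⟨g, rfl⟩
        exact ⟨g⁻¹, eq_inv_of_mul_eq_one_left (AlgEquiv.ext fun z => by
          rw [AlgEquiv.mul_apply, htoAlg, htoAlg]; exact (g : U ≃+* U).symm_apply_apply z)⟩ }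
  haveI : Finite G' := Finite.of_surjective (fun g : G => (⟨toAlg g, g, rfl⟩ : G'))
    fun ⟨_, g, hg⟩ => ⟨g, Subtype.ext hg⟩
  have hbij : Function.Bijective fun g : G => (⟨toAlg g, g, rfl⟩ : G') := by
    refine ⟨fun g h hgh => Subtype.ext (RingEquiv.ext fun z => ?_), fun ⟨_, g, hg⟩ => ⟨g, Subtype.ext hg⟩⟩
    have := AlgEquiv.congr_fun (congrArg Subtype.val hgh) z
    simpa [htoAlg] using this
  obtain ⟨h1, h2⟩ := exponent_two_card conj Φ hτ hroot G'
  refine ⟨fun g hg => RingEquiv.ext fun z => ?_, by rwa [Nat.card_eq_of_bijective _ hbij]⟩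
  have := AlgEquiv.congr_fun (h1 _ ⟨⟨g, hg⟩, rfl⟩) z
  rw [sq, AlgEquiv.mul_apply, htoAlg, htoAlg] at this
  rw [sq]
  exact this

end Groth.Agent.BddFin
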